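import Cfsg.Agent.H813.TT.PrimeDeg
import Cfsg.Agent.H705.ComUArith
import Cfsg.Agent.SmallSimple.BurnsideNC

/-!
# S3414, E-LOC: general facts on 2-transitive groups of degree `p ^ k + 1` (helper813)

* `card_two` : `|G| = n (n - 1) |G_ab|`;
* `le_of_small` : a subgroup of index at most `k` contains a simple subgroup of order divisible by `p ^ k`;
* `aff_arith` : the prime powers `p ^ k + 1`;
* `aff_cases` : the affine groups.
-/

set_option autoImplicit false

namespace Cfsg.Agent.H813.TT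

open Subgroup MulAction

universe u v

section

variable {G : Type u} {Ω : Type v} [Group G] [MulAction G Ω] {a b : Ω} {p k : ℕ}

/-- 2-transitivity, elementwise -/
def T2 (G : Type u) (Ω : Type v) [Group G] [MulAction G Ω] : Prop :=
  ∀ a b a' b' : Ω, a ≠ b → a' ≠ b' → ∃ g : G, g • a = a' ∧ g • b = b'

/-- `|G_a| = (n - 1) |G_ab|` -/
theorem card_stab [Finite G] [Finite Ω] (h : T2 G Ω) (hab : a ≠ b) : Nat.card ↥(stabilizer G a) =
    (Nat.card Ω - 1) * Nat.card ↥(stabilizer G a ⊓ stabilizer G b) := by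
  have horb : MulAction.orbit (stabilizer G a) b = {a}ᶜ := by
    ext c
    constructor
    · rintro ⟨⟨g, hg⟩, rfl⟩
      exact smul_ne' hg hab.symm
    · intro hc
      obtain ⟨g, h2, h3⟩ := h a b a c hab (fun h => hc h.symm)
      exact ⟨⟨g, h2⟩, h3⟩
  have h2 := (stabilizer (stabilizer G a) b).index_mul_card
  rw [MulAction.index_stabilizer, horb] at h2
  have h3 : ({a}ᶜ : Set Ω).ncard = Nat.card Ω - 1 := by
    have h1 := Set.ncard_add_ncard_compl ({a} : Set Ω)
    rw [Set.ncard_singleton] at h1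
    omega
  rw [h3] at h2
  rw [← h2]
  congr 1
  apply Nat.card_congr
  exact ⟨fun g => ⟨g.1.1, g.1.2, g.2⟩, fun g => ⟨⟨g.1, g.2.1⟩, g.2.2⟩, fun _ => rfl, fun _ => rfl⟩

theorem exists_ne' [Finite Ω] (h3 : 3 ≤ Nat.card Ω) (x : Ω) : ∃ y : Ω, y ≠ x := by
  have : Nontrivial Ω := Finite.one_lt_card_iff_nontrivial.1 (by omega)
  exact exists_ne x

theorem T2.pre [Finite Ω] (h3 : 3 ≤ Nat.card Ω) (h : T2 G Ω) : IsPretransitive G Ω where
  exists_smul_eq x y := by
    obtain ⟨x', hx'⟩ := exists_ne' h3 x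
    obtain ⟨y', hy'⟩ := exists_ne' h3 y
    obtain ⟨g, hg, -⟩ := h x x' y y' hx'.symm hy'.symm
    exact ⟨g, hg⟩

/-- `|G| = n (n - 1) |G_ab|` -/
theorem card_two [Finite G] [Finite Ω] (h3 : 3 ≤ Nat.card Ω) (h : T2 G Ω) (hab : a ≠ b) :
    Nat.card G = Nat.card Ω * ((Nat.card Ω - 1) * Nat.card ↥(stabilizer G a ⊓ stabilizer G b)) := by
  have := h.pre h3
  rw [← card_stab h hab, ← (stabilizer G a).index_mul_card, MulAction.index_stabilizer_of_transitive]

end

/-- **A simple group of order divisible by `p ^ k` has no proper subgroup of index at most `k`.** -/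
theorem eq_top_of_index_le {T : Type u} [Group T] [Finite T] [IsSimpleGroup T] {p k : ℕ} (hp : p.Prime)
    (hd : p ^ k ∣ Nat.card T) (M : Subgroup T) (hM : M.index ≤ k) : M = ⊤ := by
  have := Fact.mk hp
  by_contra hne
  have hker : (MulAction.toPermHom T (T ⧸ M)).ker = ⊥ := by
    rw [← Subgroup.normalCore_eq_ker]
    have h1 : M.normalCore.Normal := inferInstance
    rcases h1.eq_bot_or_eq_top with h | h
    · exact h
    · exfalso
      apply hne
      rw [eq_top_iff, ← h]
      exact M.normalCore_le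
  have h1 : Nat.card T ∣ M.index.factorial := by
    have h2 := Subgroup.card_dvd_of_injective _ ((MonoidHom.ker_eq_bot_iff _).1 hker)
    rw [Nat.card_perm] at h2
    exact h2
  have h0 : M.index ≠ 0 := Subgroup.index_ne_zero_of_finite
  have h2 : k ≤ padicValNat p M.index.factorial :=
    (padicValNat_dvd_iff_le (Nat.factorial_ne_zero _)).1 (hd.trans h1)
  have h3 := padicValNat_factorial_lt_of_ne_zero (p := p) h0
  omega

theorem le_of_small {G : Type u} [Group G] [Finite G] (T H : Subgroup G) [hT : T.Normal] [IsSimpleGroup ↥T] {p k : ℕ}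
    (hp : p.Prime) (hd : p ^ k ∣ Nat.card T) (hH : H.index ≤ k) : T ≤ H := by
  have h1 : (H.subgroupOf T).index ≤ k := by
    refine le_trans ?_ hH
    show H.relIndex T ≤ H.index
    rw [← Subgroup.relIndex_top_right]
    exact Subgroup.relIndex_le_of_le_right le_top (by rw [Subgroup.relIndex_top_right]; exact Subgroup.index_ne_zero_of_finite)
  have h2 := eq_top_of_index_le hp hd (H.subgroupOf T) h1
  rwa [Subgroup.subgroupOf_eq_top] at h2

/-! ### Prime powers `p ^ k + 1` -/

/-- `2 ^ m = p ^ k + 1` -/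
theorem two_pow_eq {p k m : ℕ} (hp : p.Prime) (hk : 1 ≤ k) (h : 2 ^ m = p ^ k + 1) : k = 1 := by
  have hp2 : p ≠ 2 := by
    rintro rfl
    obtain ⟨j, rfl⟩ : ∃ j, k = j + 1 := ⟨k - 1, by omega⟩
    have hm : m ≠ 0 := by
      rintro rfl
      rw [pow_zero] at h
      have : 0 < 2 ^ (j + 1) := by positivity
      omega
    obtain ⟨l, rfl⟩ : ∃ l, m = l + 1 := ⟨m - 1, by omega⟩
    rw [pow_succ, pow_succ] at h
    omega
  have hodd : Odd p := hp.odd_of_ne_two hp2
  have hp3 : 3 ≤ p := by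
    have := hp.two_le
    omega
  rcases Nat.even_or_odd k with ⟨j, hj⟩ | ho
  · exfalso
    -- an odd square plus one
    have h1 : p ^ k = (p ^ j) ^ 2 := by rw [hj, ← pow_mul]; ring_nf
    have h2 : (p ^ j) ^ 2 % 4 = 1 := by
      have h3 : Odd (p ^ j) := hodd.pow
      obtain ⟨t, ht⟩ := h3
      rw [ht]
      have : (2 * t + 1) ^ 2 = 4 * (t * t + t) + 1 := by ring
      omega
    have h4 : 9 ≤ p ^ k := by
      calc 9 = 3 ^ 2 := rfl
        _ ≤ p ^ 2 := Nat.pow_le_pow_left hp3 2
        _ ≤ p ^ k := Nat.pow_le_pow_right hp.pos (by omega)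
    have hm : 2 ≤ m := by
      by_contra hcon
      have h5 : m = 0 ∨ m = 1 := by omega
      rcases h5 with rfl | rfl <;> simp at h <;> omega
    obtain ⟨l, rfl⟩ : ∃ l, m = l + 2 := ⟨m - 2, by omega⟩
    rw [pow_add] at h
    omega
  · -- `k` odd
    have h1 : p + 1 ∣ p ^ k + 1 := by
      have := Odd.nat_add_dvd_pow_add_pow p 1 ho
      rwa [one_pow] at this
    obtain ⟨c, hc⟩ := h1
    -- `c` is odd
    obtain ⟨j, hj⟩ := ho
    have hdvd : 2 * (p + 1) ∣ p ^ k - p := by
      have e1 : 2 * (p + 1) ∣ p ^ 2 - 1 := by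
        obtain ⟨t, ht⟩ := hodd
        have h2 : p ^ 2 - 1 = (p + 1) * (p - 1) := by
          have := Nat.sq_sub_sq p 1
          rwa [one_pow] at this
        rw [h2, mul_comm 2]
        exact Nat.mul_dvd_mul_left _ ⟨t, by omega⟩
      have e2 : p ^ 2 - 1 ∣ (p ^ 2) ^ j - 1 := by
        have := Nat.sub_dvd_pow_sub_pow (p ^ 2) 1 j
        rwa [one_pow] at this
      have e3 : p ^ k - p = p * ((p ^ 2) ^ j - 1) := by
        rw [hj, pow_succ, pow_mul, Nat.mul_sub_one, mul_comm]
      rw [e3]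
      exact (e1.trans e2).mul_left p
    have hcodd : Odd c := by
      rw [← Nat.not_even_iff_odd]
      rintro ⟨d, hd⟩
      have e1 : 2 * (p + 1) ∣ p ^ k + 1 := ⟨d, by rw [hc, hd]; ring⟩
      have hle : p ≤ p ^ k := Nat.le_self_pow (by omega) p
      have e2 : p ^ k + 1 = (p ^ k - p) + (p + 1) := by omega
      rw [e2] at e1
      have e3 := (Nat.dvd_add_right hdvd).1 e1
      have e4 := Nat.le_of_dvd (by omega) e3
      omega
    have hc1 : c = 1 := by
      have h2 : c ∣ 2 ^ m := h ▸ hc ▸ Dvd.intro_left _ rfl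
      obtain ⟨j, -, hj⟩ := (Nat.dvd_prime_pow Nat.prime_two).1 h2
      rcases Nat.eq_zero_or_pos j with h3 | h3
      · rw [hj, h3, pow_zero]
      · exfalso
        rw [hj] at hcodd
        exact (Nat.not_odd_iff_even.2 ((Nat.even_pow' h3.ne').2 even_two)) hcodd
    rw [hc1, mul_one] at hc
    have h2 : p ^ k = p ^ 1 := by rw [pow_one]; omega
    exact Nat.pow_right_injective hp.two_le h2

end Cfsg.Agent.H813.TT
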