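import Cfsg.Agent.H813.TT.Two
import Cfsg.Agent.H873.Tits.End

/-!
# S3414, E-LOC: the affine 2-transitive groups of degree `p ^ k + 1` (helper813)
-/

set_option autoImplicit false

namespace Cfsg.Agent.H813.TT

open Subgroup MulAction
open Cfsg.Agent.H873.Tits (Spec)

universe u v

variable {G : Type u} {Ω : Type v} [Group G] [MulAction G Ω] {a b : Ω} {p k : ℕ}

theorem card_regular {N : Subgroup G} [Nonempty Ω] (htr : ∀ x y : Ω, ∃ n ∈ N, n • x = y)
    (hreg : ∀ x : Ω, ∀ n ∈ N, n • x = x → n = 1) : Nat.card N = Nat.card Ω := by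
  obtain ⟨x⟩ := ‹Nonempty Ω›
  apply Nat.card_congr
  refine Equiv.ofBijective (fun n => (n : G) • x) ⟨?_, ?_⟩
  · intro m n h
    have h1 := hreg x ((n : G)⁻¹ * m) (mul_mem (inv_mem n.2) m.2) (by
      rw [mul_smul, inv_smul_eq_iff]
      exact h)
    exact Subtype.ext (inv_mul_eq_one.1 h1).symm
  · intro y
    obtain ⟨n, hn, h⟩ := htr x y
    exact ⟨⟨n, hn⟩, h⟩

theorem card_stab_dvd_aut [Finite G] [FaithfulSMul G Ω] (N : Subgroup G) [hN : N.Normal]
    (htr : ∀ x y : Ω, ∃ n ∈ N, n • x = y) (a : Ω) : Nat.card ↥(stabilizer G a) ∣ Nat.card (MulAut N) := by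
  let f : ↥(stabilizer G a) →* MulAut N := (MulAut.conjNormal (H := N)).comp (stabilizer G a).subtype
  have hf : Function.Injective f := by
    rw [injective_iff_map_eq_one]
    rintro ⟨g, hga⟩ hg
    apply Subtype.ext
    show g = 1
    refine FaithfulSMul.eq_of_smul_eq_smul (α := Ω) fun c => ?_
    rw [one_smul]
    obtain ⟨n, hn, rfl⟩ := htr a c
    have h0 := DFunLike.congr_fun hg (⟨n, hn⟩ : N)
    have h1 : g * n * g⁻¹ = n := congrArg Subtype.val h0
    have h2 : g * n = n * g := mul_inv_eq_iff_eq_mul.1 h1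
    rw [← mul_smul, h2, mul_smul, show g • a = a from hga]
  exact Subgroup.card_dvd_of_injective f hf

/-- **the affine groups** -/
theorem aff_spec [Finite G] [Finite Ω] [FaithfulSMul G Ω] (h2 : T2 G Ω) (N : Subgroup G) [N.Normal]
    (hexp : ∃ r : ℕ, r.Prime ∧ ∀ n ∈ N, n ^ r = 1)
    (htr : ∀ x y : Ω, ∃ n ∈ N, n • x = y) (hreg : ∀ x : Ω, ∀ n ∈ N, n • x = x → n = 1)
    (hp : p.Prime) (hk : 1 ≤ k) (hn : Nat.card Ω = p ^ k + 1) (Q : Subgroup G)
    (hQp : IsPGroup p Q) (hQ1 : Q ≠ ⊥) (hfix : ∀ x ∈ Q, x • a = a)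
    (hnorm : ∀ g : G, g • a = a → ∀ x ∈ Q, g * x * g⁻¹ ∈ Q) (hab : a ≠ b) :
    Spec p k (Nat.card ↥(stabilizer G a ⊓ stabilizer G b)) := by
  obtain ⟨r, hr, hexp⟩ := hexp
  have := Fact.mk hr
  have : Nonempty Ω := ⟨a⟩
  have hpk : 2 ≤ p ^ k := hp.two_le.trans (Nat.le_self_pow (by omega) p)
  have hNc : Nat.card N = p ^ k + 1 := by rw [card_regular htr hreg, hn]
  have hNp : IsPGroup r N := fun x => ⟨1, by
    rw [pow_one]
    exact Subtype.ext (hexp x x.2)⟩
  obtain ⟨m, hm⟩ := IsPGroup.iff_card.1 hNp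
  have hst := card_stab h2 hab
  have hdv := card_stab_dvd_aut N htr a
  rw [hst, hn, Nat.add_sub_cancel] at hdv
  set c := Nat.card ↥(stabilizer G a ⊓ stabilizer G b) with hc
  rw [hNc] at hm
  by_cases hp2 : p = 2
  · subst hp2
    -- `N` of prime order
    have hone : m = 1 → Spec 2 k c := by
      intro h1
      rw [h1, pow_one] at hm
      left
      refine ⟨rfl, by rw [hm]; exact hr, ?_⟩
      have hcyc : IsCyclic N := isCyclic_of_prime_card (p := r) (by rw [hNc, hm])
      rw [hcyc.card_mulAut, hNc, hm, Nat.totient_prime hr] at hdv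
      have h3 : r - 1 = 2 ^ k * 1 := by omega
      rw [h3] at hdv
      exact Nat.dvd_one.1 (Nat.dvd_of_mul_dvd_mul_left (by positivity) hdv)
    rcases Nat.lt_or_ge k 2 with hk2 | hk2
    · have hk1 : k = 1 := by omega
      apply hone
      rw [hk1] at hm
      have h3 : r ^ m = 3 ^ 1 := by rw [← hm]; norm_num
      have hm1 : 1 ≤ m := by
        by_contra h0
        have h4 : m = 0 := by omega
        rw [h4] at h3
        norm_num at h3
      have h4 : r ∣ 3 ^ 1 := h3 ▸ dvd_pow_self r (by omega)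
      have h5 : r = 3 := (Nat.prime_dvd_prime_iff_eq hr Nat.prime_three).1 (by rwa [pow_one] at h4)
      rw [h5] at h3
      exact Nat.pow_right_injective (le_refl 3 |>.trans' (by norm_num)) h3
    · rcases H705.UArith.two_pow_add_one hr hm.symm hk2 with h1 | h9
      · exact hone h1
      · right; left
        have h8 : 2 ^ k = 2 ^ 3 := by
          have : (2 : ℕ) ^ 3 = 8 := by norm_num
          omega
        have hk3 : k = 3 := Nat.pow_right_injective le_rfl h8
        refine ⟨rfl, hk3, ?_⟩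
        have h3 : Nat.card N = 3 ^ 2 := by
          rw [hNc, hm, h9]
          norm_num
        have := Fact.mk Nat.prime_three
        have h4 := hdv.trans (Cfsg.Agent.SmallSimple.BurnsideNC.card_mulAut_dvd_of_card_eq_sq h3)
        rw [h8] at h4
        have h5 : 8 * c ∣ 8 * 6 := h4
        exact Nat.dvd_of_mul_dvd_mul_left (by norm_num) h5
  · -- `p` odd
    have hodd : Odd (p ^ k) := (hp.odd_of_ne_two hp2).pow
    have hr2 : r = 2 := by
      by_contra hne
      have h1 : Odd (r ^ m) := (hr.odd_of_ne_two hne).pow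
      rw [← hm] at h1
      exact (Nat.not_even_iff_odd.2 h1) (hodd.add_odd odd_one)
    rw [hr2] at hm
    have hk1 := two_pow_eq hp hk hm.symm
    rw [hk1, pow_one] at hn hm
    right; right; left
    exact ⟨hk1, ⟨m, hm⟩, prime_dvd hp hn Q hQp hQ1 hfix hnorm hab⟩

end Cfsg.Agent.H813.TT
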