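import Mathlib

/-!
# A normal `p`-subgroup of the point stabilizer in degree `p + 1` (helper813)
-/

set_option autoImplicit false

namespace Cfsg.Agent.H813.TT

open Subgroup MulAction

universe u v

variable {G : Type u} {Ω : Type v} [Group G] [MulAction G Ω] {a b : Ω} {p : ℕ}

/-- orbits of a `p`-group on a small invariant set are trivial -/
theorem smul_eq_of_pgroup [Finite G] (hp : p.Prime) {R : Subgroup G} (hR : IsPGroup p R) {X : Set Ω} (hX : X.Finite)
    (hX' : X.ncard < p) (hinv : ∀ g ∈ R, ∀ x ∈ X, g • x ∈ X) {g : G} (hg : g ∈ R) {x : Ω} (hx : x ∈ X) : g • x = x := by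
  have := Fact.mk hp
  have hsub : (MulAction.orbit R x) ⊆ X := by
    rintro _ ⟨⟨h, hh⟩, rfl⟩
    exact hinv h hh x hx
  have hfin : (MulAction.orbit R x).Finite := hX.subset hsub
  have := hfin.to_subtype
  obtain ⟨i, hi⟩ := hR.card_orbit x
  have h1 : (MulAction.orbit R x).ncard ≤ X.ncard := Set.ncard_le_ncard hsub hX
  rw [← Nat.card_coe_set_eq, hi] at h1
  have hi0 : i = 0 := by
    by_contra h0
    have : p ≤ p ^ i := Nat.le_self_pow h0 p
    omega
  rw [hi0, pow_zero, Nat.card_coe_set_eq, Set.ncard_eq_one] at hi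
  obtain ⟨y, hy⟩ := hi
  have h2 : x ∈ MulAction.orbit R x := MulAction.mem_orbit_self x
  have h3 : g • x ∈ MulAction.orbit R x := ⟨⟨g, hg⟩, rfl⟩
  rw [hy, Set.mem_singleton_iff] at h2 h3
  rw [h3, ← h2]

theorem smul_ne' {g : G} (h : g • a = a) {c : Ω} (hc : c ≠ a) : g • c ≠ a := by
  intro h1
  rw [← h] at h1
  exact hc (smul_left_cancel g h1)

/-- **degree `p + 1`** -/
theorem prime_dvd [Finite G] [Finite Ω] [FaithfulSMul G Ω] (hp : p.Prime) (hn : Nat.card Ω = p + 1) (Q : Subgroup G)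
    (hQp : IsPGroup p Q) (hQ1 : Q ≠ ⊥) (hfix : ∀ x ∈ Q, x • a = a)
    (hnorm : ∀ g : G, g • a = a → ∀ x ∈ Q, g * x * g⁻¹ ∈ Q) (hab : a ≠ b) :
    Nat.card ↥(stabilizer G a ⊓ stabilizer G b) ∣ p - 1 := by
  have := Fact.mk hp
  have hca : ({a}ᶜ : Set Ω).ncard = p := by
    have h1 := Set.ncard_add_ncard_compl ({a} : Set Ω)
    rw [Set.ncard_singleton, hn] at h1
    omega
  -- transitivity
  have htr : ∀ c d : Ω, c ≠ a → d ≠ a → ∃ u ∈ Q, u • c = d := by
    obtain ⟨⟨x, hx⟩, hx1⟩ := Subgroup.ne_bot_iff_exists_ne_one.1 hQ1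
    have hx1' : x ≠ 1 := fun h => hx1 (Subtype.ext h)
    obtain ⟨c₀, hc₀⟩ : ∃ c : Ω, x • c ≠ c := by
      by_contra hcon
      push Not at hcon
      exact hx1' (FaithfulSMul.eq_of_smul_eq_smul (α := Ω) fun c => by rw [hcon c, one_smul])
    have hc₀a : c₀ ≠ a := by
      rintro rfl
      exact hc₀ (hfix x hx)
    have hsub : (MulAction.orbit Q c₀) ⊆ {a}ᶜ := by
      rintro _ ⟨⟨h, hh⟩, rfl⟩
      exact smul_ne' (hfix h hh) hc₀a
    have horb : MulAction.orbit Q c₀ = {a}ᶜ := by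
      have hfin : ({a}ᶜ : Set Ω).Finite := Set.toFinite _
      have := (hfin.subset hsub).to_subtype
      obtain ⟨i, hi⟩ := hQp.card_orbit c₀
      rw [Nat.card_coe_set_eq] at hi
      refine Set.eq_of_subset_of_ncard_le hsub ?_ hfin
      rw [hca, hi]
      rcases Nat.eq_zero_or_pos i with h0 | h0
      · exfalso
        rw [h0, pow_zero, Set.ncard_eq_one] at hi
        obtain ⟨y, hy⟩ := hi
        have h2 : c₀ ∈ MulAction.orbit Q c₀ := MulAction.mem_orbit_self c₀
        have h3 : x • c₀ ∈ MulAction.orbit Q c₀ := ⟨⟨x, hx⟩, rfl⟩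
        rw [hy, Set.mem_singleton_iff] at h2 h3
        exact hc₀ (h3.trans h2.symm)
      · exact Nat.le_self_pow h0.ne' p
    intro c d hc hd
    have h1 : c ∈ MulAction.orbit Q c₀ := by rw [horb]; exact hc
    have h2 : d ∈ MulAction.orbit Q c₀ := by rw [horb]; exact hd
    obtain ⟨⟨u, hu⟩, rfl⟩ := h1
    obtain ⟨⟨v, hv⟩, rfl⟩ := h2
    refine ⟨v * u⁻¹, mul_mem hv (inv_mem hu), ?_⟩
    show (v * u⁻¹) • u • c₀ = v • c₀
    rw [mul_smul, inv_smul_smul]
  -- freeness
  have hfree : ∀ u ∈ Q, ∀ d : Ω, d ≠ a → u • d = d → u = 1 := by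
    intro u hu d hd hud
    have hX : ({a, d}ᶜ : Set Ω).ncard < p := by
      have h1 := Set.ncard_add_ncard_compl ({a, d} : Set Ω)
      rw [Set.ncard_pair hd.symm, hn] at h1
      omega
    refine FaithfulSMul.eq_of_smul_eq_smul (α := Ω) fun c => ?_
    rw [one_smul]
    by_cases hc : c ∈ ({a, d} : Set Ω)
    · rcases hc with rfl | hc
      · exact hfix u hu
      · rw [Set.mem_singleton_iff] at hc
        rw [hc, hud]
    · refine smul_eq_of_pgroup hp (R := Q ⊓ stabilizer G d) (hQp.to_le inf_le_left) (Set.toFinite _) hX ?_ ⟨hu, hud⟩ hc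
      rintro g ⟨hgQ, hgd⟩ x hx hc'
      apply hx
      rcases hc' with h1 | h1
      · left
        have h2 : g • x = g • a := h1.trans (hfix g hgQ).symm
        exact smul_left_cancel g h2
      · right
        rw [Set.mem_singleton_iff] at h1 ⊢
        have h2 : g • x = g • d := h1.trans (show d = g • d from (show g • d = d from hgd).symm)
        exact smul_left_cancel g h2
  -- the order of `Q`
  have hQc : Nat.card Q = p := by
    rw [← hca, ← Nat.card_coe_set_eq]
    apply Nat.card_congr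
    refine Equiv.ofBijective (fun u => ⟨(u : G) • b, smul_ne' (hfix u u.2) hab.symm⟩) ⟨?_, ?_⟩
    · intro u v huv
      have h1 : (u : G) • b = (v : G) • b := congrArg Subtype.val huv
      have h2 := hfree ((v : G)⁻¹ * u) (mul_mem (inv_mem v.2) u.2) b hab.symm (by
        rw [mul_smul, inv_smul_eq_iff, h1])
      exact Subtype.ext (inv_mul_eq_one.1 h2).symm
    · rintro ⟨c, hc⟩
      obtain ⟨u, hu, huc⟩ := htr b c hab.symm hc
      exact ⟨⟨u, hu⟩, Subtype.ext huc⟩
  have hcyc : IsCyclic Q := isCyclic_of_prime_card hQc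
  -- the automorphisms
  have hle : stabilizer G a ⊓ stabilizer G b ≤ normalizer (Q : Set G) := by
    rintro g ⟨hga, -⟩
    have hga' : g • a = a := hga
    rw [mem_normalizer_iff]
    intro x
    refine ⟨fun hx => hnorm g hga' x hx, fun hx => ?_⟩
    have h1 := hnorm g⁻¹ (by rw [inv_smul_eq_iff, hga']) _ hx
    have h2 : g⁻¹ * (g * x * g⁻¹) * g⁻¹⁻¹ = x := by group
    rwa [h2] at h1
  let f : ↥(stabilizer G a ⊓ stabilizer G b) →* MulAut Q := Q.normalizerMonoidHom.comp (inclusion hle)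
  have hf : Function.Injective f := by
    rw [injective_iff_map_eq_one]
    rintro ⟨g, hga, hgb⟩ hg
    apply Subtype.ext
    show g = 1
    refine FaithfulSMul.eq_of_smul_eq_smul (α := Ω) fun c => ?_
    rw [one_smul]
    by_cases hc : c = a
    · rw [hc]; exact hga
    obtain ⟨u, hu, rfl⟩ := htr b c hab.symm hc
    have h0 := DFunLike.congr_fun hg (⟨u, hu⟩ : Q)
    have h1 : g * u * g⁻¹ = u := congrArg Subtype.val h0
    have h2 : g * u = u * g := mul_inv_eq_iff_eq_mul.1 h1
    rw [← mul_smul, h2, mul_smul, show g • b = b from hgb]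
  have h1 := Subgroup.card_dvd_of_injective f hf
  rwa [hcyc.card_mulAut, hQc, Nat.totient_prime hp] at h1

end Cfsg.Agent.H813.TT
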