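import Cfsg.Agent.H813.TT.RowSz
import Cfsg.Agent.H813.TT.PrimeDeg

/-!
# S3414, E-LOC: the alternating row, small rows (helper813)
-/

set_option autoImplicit false
open Cfsg

namespace Cfsg.Agent.H813.TT

open Subgroup MulAction Cfsg.Agent.H384.TwoTrans Cfsg.Agent.H499.TT Cfsg.Agent.H361.Tits
open Cfsg.Agent.H873.Tits (TBd)

universe u v w

variable {G : Type u} {Ω : Type v} [Group G] [MulAction G Ω] {T : Subgroup G} {a b : Ω} {p k : ℕ} {Z : Subgroup G}

/-- `|G| = n (n - 1) |G_ab|` -/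
theorem card_G (A : AS G Ω T) (hab : a ≠ b) :
    Nat.card G = Nat.card Ω * ((Nat.card Ω - 1) * Nat.card ↥(stabilizer G a ⊓ stabilizer G b)) := by
  have := A.finG
  have := A.finΩ
  have htr : IsPretransitive G Ω := isPretransitive_of_is_two_pretransitive (h2 := A.two)
  have h1 : Nat.card G = Nat.card Ω * Nat.card ↥(stabilizer G a) := by
    rw [← (stabilizer G a).index_mul_card, MulAction.index_stabilizer_of_transitive]
  rw [h1]
  congr 1
  -- the stabilizer of `b` in `G_a`
  have horb : MulAction.orbit (stabilizer G a) b = {a}ᶜ := by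
    ext c
    constructor
    · rintro ⟨⟨g, hg⟩, rfl⟩
      exact smul_ne' hg hab.symm
    · intro hc
      obtain ⟨g, h2, h3⟩ := A.two' a b a c hab (fun h => hc h.symm)
      exact ⟨⟨g, h2⟩, h3⟩
  have h2 := (stabilizer (stabilizer G a) b).index_mul_card
  rw [MulAction.index_stabilizer, horb] at h2
  have h3 : ({a}ᶜ : Set Ω).ncard = Nat.card Ω - 1 := by
    have h1 := Set.ncard_add_ncard_compl ({a} : Set Ω)
    rw [Set.ncard_singleton] at h1
    omega
  rw [h3] at h2
  rw [← h2]
  congr 1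
  apply Nat.card_congr
  exact ⟨fun g => ⟨g.1.1, g.1.2, g.2⟩, fun g => ⟨⟨g.1, g.2.1⟩, g.2.2⟩, fun _ => rfl, fun _ => rfl⟩

/-- **prime degree minus one** : the order of `T` is at most `(p + 1) p (p - 1)` -/
theorem card_le_of_prime (A : AS G Ω T) (h : EA a p Z) (hn : Nat.card Ω = p + 1) :
    Nat.card T ≤ (p + 1) * (p * (p - 1)) := by
  have := A.finG
  have := A.finΩ
  have := A.faithful
  have := A.nontrivialΩ
  obtain ⟨b, hb⟩ := exists_ne a
  have h1 := prime_dvd h.prime hn Z h.isPGroup h.ne_bot h.fix h.norm hb.symm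
  have h2 := card_G A hb.symm
  rw [hn, Nat.add_sub_cancel] at h2
  have hp := h.prime.two_le
  have h3 := Nat.le_of_dvd (by omega) h1
  calc Nat.card T ≤ Nat.card G := Nat.le_of_dvd Nat.card_pos (Subgroup.card_subgroup_dvd_card T)
    _ ≤ _ := by
      rw [h2]
      exact Nat.mul_le_mul_left _ (Nat.mul_le_mul_left _ h3)

/-- **the alternating groups, degree at least 7** -/
theorem alt_false (A : AS G Ω T) (h : SR a p Z) (hT : 2 * Nat.card T = (Nat.card Ω).factorial)
    (h7 : 7 ≤ Nat.card Ω) : False := by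
  classical
  have := A.finG
  have := A.finΩ
  have := A.faithful
  have := A.nontrivialΩ
  have := Fintype.ofFinite Ω
  have halt := alt_le_range A hT
  obtain ⟨z, hz, hz1⟩ := h.exists_ne
  obtain ⟨b, hb⟩ := exists_ne a
  have hfr : ∀ x : Ω, x ≠ a → z • x ≠ x := fun x hx hc => hx (h.free z hz hz1 x hc)
  have hza : z • a = a := h.fix z hz
  have hcard : Fintype.card Ω = Nat.card Ω := Nat.card_eq_fintype_card.symm
  -- a point outside a small set
  have hex : ∀ s : Finset Ω, s.card ≤ 6 → ∃ x : Ω, x ∉ s := by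
    intro s hs
    by_contra hcon
    push Not at hcon
    have h1 : s = Finset.univ := Finset.eq_univ_iff_forall.2 hcon
    rw [h1, Finset.card_univ, hcard] at hs
    omega
  obtain ⟨d, hd⟩ := hex {a, b, z • b} (Finset.card_le_three.trans (by norm_num))
  obtain ⟨e, he⟩ := hex {a, b, z • b, d, z • d} (Finset.card_le_five.trans (by norm_num))
  obtain ⟨f, hf⟩ := hex {a, b, z • b, d, z • d, e} (Finset.card_le_six.trans le_rfl)
  simp only [Finset.mem_insert, Finset.mem_singleton, not_or] at hd he hf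
  -- the 3-cycle
  let σ : Equiv.Perm Ω := Equiv.swap d e * Equiv.swap d f
  have hσ : σ ∈ alternatingGroup Ω := by
    rw [Equiv.Perm.mem_alternatingGroup]
    show Equiv.Perm.sign (Equiv.swap d e * Equiv.swap d f) = 1
    rw [map_mul, Equiv.Perm.sign_swap (Ne.symm he.2.2.2.1), Equiv.Perm.sign_swap (Ne.symm hf.2.2.2.1)]
    rfl
  obtain ⟨g, hg⟩ := halt hσ
  have hgx : ∀ x : Ω, g • x = σ x := fun x => by rw [← hg]; rfl
  have hσfix : ∀ x : Ω, x ≠ d → x ≠ e → x ≠ f → σ x = x := by
    intro x h1 h2 h3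
    show Equiv.swap d e (Equiv.swap d f x) = x
    rw [Equiv.swap_apply_of_ne_of_ne h1 h3, Equiv.swap_apply_of_ne_of_ne h1 h2]
  have hga : g • a = a := by rw [hgx, hσfix a (Ne.symm hd.1) (Ne.symm he.1) (Ne.symm hf.1)]
  have hgb : g • b = b := by rw [hgx, hσfix b (Ne.symm hd.2.1) (Ne.symm he.2.1) (Ne.symm hf.2.1)]
  have hgc : g • z • b = z • b := by rw [hgx, hσfix _ (Ne.symm hd.2.2) (Ne.symm he.2.2.1) (Ne.symm hf.2.2.1)]
  -- `g` commutes with `z`
  have h1 : z⁻¹ * (g * z * g⁻¹) = 1 := by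
    by_contra hne
    apply hb
    refine h.free _ (mul_mem (inv_mem hz) (h.norm g hga z hz)) hne b ?_
    rw [mul_smul, mul_smul, mul_smul, inv_smul_eq_iff.2 hgb.symm, hgc, inv_smul_smul]
  have h2 : g * z = z * g := by
    have h3 : g * z * g⁻¹ = z := (inv_mul_eq_one.1 h1).symm
    exact mul_inv_eq_iff_eq_mul.1 h3
  -- the image of `z d`
  have h3 : g • z • d = z • d := by
    have hzd : z • d ≠ d := hfr d hd.1
    rw [hgx, hσfix _ hzd (Ne.symm he.2.2.2.2) (Ne.symm hf.2.2.2.2.1)]
  rw [← mul_smul, h2, mul_smul] at h3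
  have h4 : g • d = d := smul_left_cancel z h3
  rw [hgx] at h4
  have h5 : σ d = f := by
    show Equiv.swap d e (Equiv.swap d f d) = f
    rw [Equiv.swap_apply_left, Equiv.swap_apply_of_ne_of_ne (hf.2.2.2.1) (hf.2.2.2.2.2)]
  rw [h5] at h4
  exact hf.2.2.2.1 h4

/-- **the alternating group of degree 5** -/
theorem alt5_good (A : AS G Ω T) (hT : 2 * Nat.card T = (Nat.card Ω).factorial) (h5 : Nat.card Ω = 5)
    (hp : p.Prime) (hk : 4 = p ^ k) (hab : a ≠ b) : Good G T p k a b := by
  classical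
  have := A.finG
  have := A.finΩ
  have := A.faithful
  have := Fintype.ofFinite Ω
  obtain ⟨rfl, rfl⟩ := pow_inj' (f := 2) Nat.prime_two hp (by norm_num) (by rw [← hk]; norm_num)
  have hT60 : Nat.card T = 60 := by
    rw [h5] at hT
    have : (5 : ℕ).factorial = 120 := rfl
    omega
  have hG : Nat.card G ∣ 120 := by
    have h1 : Nat.card G ∣ Nat.card (Equiv.Perm Ω) :=
      Subgroup.card_dvd_of_injective (MulAction.toPermHom G Ω) MulAction.toPerm_injective
    rwa [Nat.card_perm, h5] at h1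
  refine ⟨?_, Or.inl le_rfl, Or.inl ?_⟩
  · -- `T` is the alternating group
    have hinj : Function.Injective (MulAction.toPermHom G Ω) := MulAction.toPerm_injective
    have h1 : Nat.card (T.map (MulAction.toPermHom G Ω)) = Nat.card T :=
      Nat.card_congr (T.equivMapOfInjective _ hinj).symm.toEquiv
    have h2 := (T.map (MulAction.toPermHom G Ω)).card_mul_index
    rw [h1, Nat.card_perm, ← hT, mul_comm 2] at h2
    have h3 : (T.map (MulAction.toPermHom G Ω)).index = 2 := Nat.eq_of_mul_eq_mul_left Nat.card_pos h2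
    have h4 := Equiv.Perm.eq_alternatingGroup_of_index_eq_two h3
    have h6 := alternatingGroup.isMultiplyPretransitive Ω
    have h7 : IsMultiplyPretransitive (alternatingGroup Ω) Ω 2 :=
      isMultiplyPretransitive_of_le (n := Nat.card Ω - 2) (by omega) (by omega)
    intro x y x' y' hxy hxy'
    obtain ⟨⟨σ, hσ⟩, e1, e2⟩ := MulAction.is_two_pretransitive_iff.mp h7 hxy hxy'
    rw [← h4] at hσ
    obtain ⟨t, ht, rfl⟩ := hσ
    exact ⟨t, ht, e1, e2⟩
  · have h1 := card_G A hab
    rw [h5] at h1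
    rw [h1] at hG
    have h2 : 20 * Nat.card ↥(stabilizer G a ⊓ stabilizer G b) ∣ 20 * 6 := by
      have : 5 * ((5 - 1) * Nat.card ↥(stabilizer G a ⊓ stabilizer G b)) =
        20 * Nat.card ↥(stabilizer G a ⊓ stabilizer G b) := by ring
      rw [← this]
      exact hG
    exact Nat.dvd_of_mul_dvd_mul_left (by norm_num) h2

/-- **`PSL₂(8)` of degree 28** -/
theorem psl28_dvd (A : AS G Ω T) {F : Type w} [Field F] [Fintype F] (hF : Fintype.card F = 8)
    (e : ↥T ≃* Matrix.ProjectiveSpecialLinearGroup (Fin 2) F) (hn : Nat.card Ω = 28) (hab : a ≠ b) :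
    Nat.card ↥(stabilizer G a ⊓ stabilizer G b) = 2 := by
  have := A.finG
  have h1 := psl28_index A hF e hn
  have h2 := card_G A hab
  have h3 : Nat.card T = 504 := by rw [Nat.card_congr e.toEquiv, card_psl2 hF]; norm_num
  rw [← T.card_mul_index, h1, h3, hn] at h2
  omega

end Cfsg.Agent.H813.TT
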