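import Cfsg.Agent.H813.TT.Alt

/-!
# S3414, E-LOC: the non-affine 2-transitive groups of degree `p ^ k + 1` (helper813)
-/

set_option autoImplicit false
open Cfsg

namespace Cfsg.Agent.H813.TT

open Subgroup MulAction Cfsg.Agent.H384.TwoTrans Cfsg.Agent.H499.TT Cfsg.Agent.H361.Tits
open Cfsg.Agent.H873.Tits (TBd)

universe u v w

variable {G : Type u} {Ω : Type v} [Group G] [MulAction G Ω] {T : Subgroup G} {a b : Ω} {p k : ℕ} {Z : Subgroup G}

theorem not_pp {N r s : ℕ} (hp : p.Prime) (hr : r.Prime) (hs : s.Prime) (hrs : r ≠ s) (h1 : r ∣ N) (h2 : s ∣ N)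
    (h : N = p ^ k) : False := by
  rw [h] at h1 h2
  have e1 := (Nat.prime_dvd_prime_iff_eq hr hp).1 (hr.dvd_of_dvd_pow h1)
  have e2 := (Nat.prime_dvd_prime_iff_eq hs hp).1 (hs.dvd_of_dvd_pow h2)
  exact hrs (e1.trans e2.symm)

theorem psl_arith {r f d : ℕ} (hp : p.Prime) (hr : r.Prime) (hf : 1 ≤ f) (hd : 2 ≤ d)
    (h : (p ^ k + 1) * (r ^ f - 1) = (r ^ f) ^ d - 1) : d = 2 := by
  have hq1 : 1 < r ^ f := Nat.one_lt_pow (by omega) hr.one_lt
  obtain ⟨e, rfl⟩ : ∃ e, d = e + 1 := ⟨d - 1, by omega⟩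
  have hqe : 1 < (r ^ f) ^ e := Nat.one_lt_pow (by omega) hq1
  -- `p ^ k (q - 1) = q (q ^ e - 1)`
  have h1 : p ^ k * (r ^ f - 1) = r ^ f * ((r ^ f) ^ e - 1) := by
    have h2 : (r ^ f) ^ (e + 1) = r ^ f * (r ^ f) ^ e := by rw [pow_succ']
    have h3 : r ^ f * ((r ^ f) ^ e - 1) = r ^ f * (r ^ f) ^ e - r ^ f := by rw [Nat.mul_sub_one]
    have h4 : (p ^ k + 1) * (r ^ f - 1) = p ^ k * (r ^ f - 1) + (r ^ f - 1) := by ring
    rw [h4, h2] at h
    rw [h3]
    omega
  have hc1 : Nat.Coprime (r ^ f) (r ^ f - 1) := by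
    rw [Nat.coprime_self_sub_right (by omega)]
    exact Nat.coprime_one_right _
  have hrq : r ∣ r ^ f := dvd_pow_self r (by omega)
  have h2 : r ^ f ∣ p ^ k := hc1.dvd_of_dvd_mul_right (h1 ▸ Dvd.intro _ rfl)
  have hrp : r = p := (Nat.prime_dvd_prime_iff_eq hr hp).1 (hr.dvd_of_dvd_pow (hrq.trans h2))
  subst hrp
  have hc2 : Nat.Coprime (r ^ k) ((r ^ f) ^ e - 1) := by
    apply Nat.Coprime.pow_left
    rw [hr.coprime_iff_not_dvd]
    intro h3
    have h4 : r ∣ (r ^ f) ^ e := hrq.trans (dvd_pow_self _ (by omega))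
    exact hr.one_lt.ne' (Nat.dvd_one.1 ((Nat.dvd_sub_iff_right (by omega) h4).1 h3))
  have h3 : r ^ k ∣ r ^ f := hc2.dvd_of_dvd_mul_right (h1 ▸ Dvd.intro _ rfl)
  have h4 : r ^ k = r ^ f := Nat.dvd_antisymm h3 h2
  rw [h4] at h1
  have h5 : r ^ f - 1 = (r ^ f) ^ e - 1 := Nat.eq_of_mul_eq_mul_left (by omega) h1
  have h6 : (r ^ f) ^ 1 = (r ^ f) ^ e := by rw [pow_one]; omega
  have h7 := Nat.pow_right_injective hq1 h6
  omega

/-- **The rows.** -/
theorem rows (A : AS G Ω T) (hK : Known2 ↥T (Nat.card Ω)) (h : SR a p Z) (hn : Nat.card Ω = p ^ k + 1)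
    (hab : a ≠ b) : Good G T p k a b ∨
      (p = 3 ∧ k = 3 ∧ Nat.card ↥(stabilizer G a ⊓ stabilizer G b) = 2) := by
  have hfin := A.finG
  have hfinΩ := A.finΩ
  have hff := A.faithful
  have hp := h.prime
  -- prime degree minus one
  have hprime : ∀ {q t : ℕ}, q.Prime → Nat.card Ω = q + 1 → Nat.card T = t → (q + 1) * (q * (q - 1)) < t → False := by
    intro q t hq hq' ht hlt
    have h1 : q ^ 1 = p ^ k := by rw [pow_one]; omega
    obtain ⟨rfl, -⟩ := pow_inj' hq hp le_rfl h1
    have h2 := card_le_of_prime A h.toEA hq'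
    omega
  generalize hn' : Nat.card Ω = n at hK
  have hpk : n = p ^ k + 1 := hn'.symm.trans hn
  cases hK with
  | alt n h5 e =>
    obtain ⟨e⟩ := e
    have hT : 2 * Nat.card T = (Nat.card Ω).factorial := by rw [hn', Nat.card_congr e.toEquiv, card_alt h5]
    rcases Nat.lt_or_ge n 7 with h7 | h7
    · have h56 : n = 5 ∨ n = 6 := by omega
      rcases h56 with rfl | rfl
      · exact Or.inl (alt5_good A hT hn' hp (by omega) hab)
      · exfalso
        refine hprime (q := 5) (t := 360) (by norm_num) hn' ?_ (by norm_num)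
        rw [hn'] at hT
        have : (6 : ℕ).factorial = 720 := rfl
        omega
    · exact (alt_false A h hT (by rw [hn']; exact h7)).elim
  | psl F d n hd hd2 e hnn =>
    obtain ⟨e⟩ := e
    obtain ⟨r, hchar⟩ := CharP.exists F
    obtain ⟨⟨f, hf0⟩, hr, hF⟩ := FiniteField.card F r
    simp only [PNat.mk_coe] at hF
    have h2 : d = 2 := psl_arith (p := p) (k := k) hp hr hf0 hd (by rw [← hF, ← hpk]; exact hnn)
    subst h2
    have h4 := hd2 rfl
    have hnq : n = Fintype.card F + 1 := by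
      have h5 : Fintype.card F ^ 2 - 1 = (Fintype.card F + 1) * (Fintype.card F - 1) := by
        have := Nat.sq_sub_sq (Fintype.card F) 1
        rwa [one_pow] at this
      rw [h5] at hnn
      exact Nat.eq_of_mul_eq_mul_right (by omega) hnn
    exact Or.inl (psl2_good A h4 e (hn'.trans hnq) hp (by omega) hab)
  | sp F m n hF hm e hnn =>
    obtain ⟨e⟩ := e
    exact (h.sp_row A hF hm e (by rw [hn']; exact hnn)).elim
  | psu F q n hq hF e hnn =>
    obtain ⟨e⟩ := e
    exact Or.inl (psu_good A hq hF e (hn'.trans hnn) hp (by omega) hab)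
  | sz F m n hm hF e hnn =>
    obtain ⟨e⟩ := e
    exact Or.inl (sz_good A hm hF e (hn'.trans hnn) hp (by omega) hab)
  | ree K m n hm hK e hnn =>
    obtain ⟨e⟩ := e
    exact Or.inl (ree_good A hm hK e (hn'.trans hnn) hp (by omega) hab)
  | psl2_8 F hF e =>
    obtain ⟨e⟩ := e
    obtain ⟨rfl, rfl⟩ := pow_inj' (f := 3) Nat.prime_three hp (by norm_num) (show 3 ^ 3 = p ^ k by
      have : (3 : ℕ) ^ 3 = 27 := by norm_num
      omega)
    exact Or.inr ⟨rfl, rfl, psl28_dvd A hF e hn' hab⟩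
  | psl2_9 F hF e =>
    obtain ⟨e⟩ := e
    exfalso
    exact hprime (q := 5) (t := 360) (by norm_num) hn' (by rw [Nat.card_congr e.toEquiv, card_psl2 hF]; norm_num)
      (by norm_num)
  | psl2_11 F hF e =>
    exact (not_pp (N := 10) (r := 2) (s := 5) hp (by norm_num) (by norm_num) (by norm_num) (by norm_num) (by norm_num)
      (k := k) (by omega)).elim
  | psl4_2 F hF e =>
    obtain ⟨e⟩ := e
    exfalso
    exact hprime (q := 7) (t := 20160) (by norm_num) hn' (by rw [Nat.card_congr e.toEquiv, card_psl4_2 hF])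
      (by norm_num)
  | a7 e =>
    exact (not_pp (N := 14) (r := 2) (s := 7) hp (by norm_num) (by norm_num) (by norm_num) (by norm_num) (by norm_num)
      (k := k) (by omega)).elim
  | m11 h' =>
    exact (not_pp (N := 10) (r := 2) (s := 5) hp (by norm_num) (by norm_num) (by norm_num) (by norm_num) (by norm_num)
      (k := k) (by omega)).elim
  | m11' h' =>
    obtain ⟨e⟩ := h'
    exfalso
    exact hprime (q := 11) (by norm_num) hn' (by rw [Nat.card_congr e.toEquiv, Cfsg.Agent.H994.TwoGen.M11.card_M11])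
      (by norm_num)
  | m12 h' =>
    obtain ⟨e⟩ := h'
    exfalso
    exact hprime (q := 11) (by norm_num) hn'
      (by rw [Nat.card_congr e.toEquiv, Cfsg.Agent.MTwelveType.SylowModel.card_M12]) (by norm_num)
  | m22 h' =>
    exact (not_pp (N := 21) (r := 3) (s := 7) hp (by norm_num) (by norm_num) (by norm_num) (by norm_num) (by norm_num)
      (k := k) (by omega)).elim
  | m23 h' =>
    exact (not_pp (N := 22) (r := 2) (s := 11) hp (by norm_num) (by norm_num) (by norm_num) (by norm_num)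
      (by norm_num) (k := k) (by omega)).elim
  | m24 h' =>
    obtain ⟨e⟩ := h'
    exfalso
    exact hprime (q := 23) (by norm_num) hn' (by rw [Nat.card_congr e.toEquiv, Cfsg.Agent.H729.M24Deg.card_M24])
      (by norm_num)
  | hs h' =>
    exact (not_pp (N := 175) (r := 5) (s := 7) hp (by norm_num) (by norm_num) (by norm_num) (by norm_num)
      (by norm_num) (k := k) (by omega)).elim
  | co3 h' =>
    exact (not_pp (N := 275) (r := 5) (s := 11) hp (by norm_num) (by norm_num) (by norm_num) (by norm_num)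
      (by norm_num) (k := k) (by omega)).elim

end Cfsg.Agent.H813.TT
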