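import Cfsg.Agent.H813.TT.Rows

set_option autoImplicit false
open Cfsg

namespace Cfsg.Agent.H813.TT

open Subgroup MulAction Cfsg.Agent.H384.TwoTrans Cfsg.Agent.H499.TT Cfsg.Agent.H361.Tits
open Cfsg.Agent.H873.Tits (TBd)

universe u v w

variable {G : Type u} {Ω : Type v} [Group G] [MulAction G Ω] {T : Subgroup G} {a b : Ω} {p k : ℕ}

/-- a Sylow subgroup regular on the other cosets of its normalizer: trivial intersections and the number -/
theorem ti_of_reg {X : Type w} [Group X] [Finite X] {p : ℕ} [Fact p.Prime] (S : Sylow p X) {n : ℕ}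
    (hidx : (normalizer ((S : Subgroup X) : Set X)).index = n + 1) (hn : 1 ≤ n)
    (hreg : ∀ x y : X ⧸ normalizer ((S : Subgroup X) : Set X), x ≠ (QuotientGroup.mk 1) → y ≠ (QuotientGroup.mk 1) →
      ∃! s : ↥(S : Subgroup X), (s : X) • x = y) :
    (∀ P Q : Sylow p X, P ≠ Q → (P : Subgroup X) ⊓ (Q : Subgroup X) = ⊥) ∧ Nat.card S = n ∧
      Nat.card (Sylow p X) = n + 1 := by
  refine ⟨fun P Q hPQ => ?_, ?_, ?_⟩
  · obtain ⟨g, hg⟩ := exists_smul_eq X S P
    obtain ⟨h, hh⟩ := exists_smul_eq X S Q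
    rw [eq_bot_iff]
    rintro x ⟨hxP, hxQ⟩
    rw [mem_bot]
    have h1 : g⁻¹ * x * g ∈ (S : Subgroup X) := by
      have hxP' : x ∈ ((g • S : Sylow p X) : Subgroup X) := by rw [hg]; exact hxP
      rw [Sylow.coe_subgroup_smul, Subgroup.mem_pointwise_smul_iff_inv_smul_mem] at hxP'
      have h2 : (MulAut.conj g)⁻¹ • x = g⁻¹ * x * g := by
        rw [← map_inv]; simp
      rwa [h2] at hxP'
    have h2 : h⁻¹ * x * h ∈ (S : Subgroup X) := by
      have hxQ' : x ∈ ((h • S : Sylow p X) : Subgroup X) := by rw [hh]; exact hxQ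
      rw [Sylow.coe_subgroup_smul, Subgroup.mem_pointwise_smul_iff_inv_smul_mem] at hxQ'
      have h2 : (MulAut.conj h)⁻¹ • x = h⁻¹ * x * h := by
        rw [← map_inv]; simp
      rwa [h2] at hxQ'
    -- the coset
    have hne : ((g⁻¹ * h : X) : X ⧸ normalizer ((S : Subgroup X) : Set X)) ≠ (QuotientGroup.mk 1) := by
      intro hc
      apply hPQ
      have h3 : (g⁻¹ * h)⁻¹ * 1 ∈ normalizer ((S : Subgroup X) : Set X) := QuotientGroup.eq.1 hc
      rw [mul_one, inv_mem_iff] at h3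
      have h4 : (g⁻¹ * h) • S = S := Sylow.smul_eq_iff_mem_normalizer.2 h3
      rw [mul_smul, inv_smul_eq_iff, hg, hh] at h4
      exact h4.symm
    obtain ⟨s, -, hu⟩ := hreg _ _ hne hne
    have h3 := hu ⟨g⁻¹ * x * g, h1⟩ (by
      show ((g⁻¹ * x * g * (g⁻¹ * h) : X) : X ⧸ normalizer ((S : Subgroup X) : Set X)) = _
      rw [QuotientGroup.eq]
      have h5 : (g⁻¹ * x * g * (g⁻¹ * h))⁻¹ * (g⁻¹ * h) = (h⁻¹ * x * h)⁻¹ := by group
      rw [h5, inv_mem_iff]
      exact le_normalizer h2)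
    have h4 := hu 1 (one_smul _ _)
    have h5 : g⁻¹ * x * g = 1 := congrArg Subtype.val (h3.trans h4.symm)
    have h6 : x = g * (g⁻¹ * x * g) * g⁻¹ := by group
    rw [h6, h5]
    group
  · have h0 : Nat.card (X ⧸ normalizer ((S : Subgroup X) : Set X)) = n + 1 := hidx
    have hnt : Nontrivial (X ⧸ normalizer ((S : Subgroup X) : Set X)) :=
      Finite.one_lt_card_iff_nontrivial.1 (by rw [h0]; omega)
    obtain ⟨y, hy⟩ := exists_ne (QuotientGroup.mk 1 : X ⧸ normalizer ((S : Subgroup X) : Set X))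
    have hfix : ∀ s : ↥(S : Subgroup X), (s : X) • (QuotientGroup.mk 1 : X ⧸ normalizer ((S : Subgroup X) : Set X)) =
        QuotientGroup.mk 1 := by
      intro s
      show ((s * 1 : X) : X ⧸ normalizer ((S : Subgroup X) : Set X)) = _
      rw [QuotientGroup.eq, mul_one, mul_one, inv_mem_iff]
      exact le_normalizer s.2
    have hcard : Nat.card (S : Subgroup X) =
        Nat.card {z : X ⧸ normalizer ((S : Subgroup X) : Set X) // z ≠ QuotientGroup.mk 1} := by
      apply Nat.card_congr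
      refine Equiv.ofBijective (fun s => ⟨(s : X) • y, fun hc => hy ?_⟩) ⟨?_, ?_⟩
      · rw [← hfix s] at hc
        exact smul_left_cancel _ hc
      · intro s t hst
        have h1 : (s : X) • y = (t : X) • y := congrArg Subtype.val hst
        have h2 : (t : X) • y ≠ QuotientGroup.mk 1 := by
          intro hc
          rw [← hfix t] at hc
          exact hy (smul_left_cancel _ hc)
        obtain ⟨r, -, hu⟩ := hreg y _ hy h2
        rw [hu s h1, hu t rfl]
      · rintro ⟨z, hz⟩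
        obtain ⟨r, hr, -⟩ := hreg y z hy hz
        exact ⟨r, Subtype.ext hr⟩
    have h1 := Set.ncard_add_ncard_compl ({QuotientGroup.mk 1} : Set (X ⧸ normalizer ((S : Subgroup X) : Set X)))
    rw [Set.ncard_singleton, ← Nat.card_coe_set_eq, h0] at h1
    have h4 : Nat.card ↥({QuotientGroup.mk 1}ᶜ : Set (X ⧸ normalizer ((S : Subgroup X) : Set X))) =
      Nat.card {z : X ⧸ normalizer ((S : Subgroup X) : Set X) // z ≠ QuotientGroup.mk 1} := rfl
    show Nat.card (S : Subgroup X) = n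
    rw [hcard, ← h4]
    omega
  · rw [Sylow.card_eq_index_normalizer S]
    exact hidx

/-- the Suzuki groups -/
theorem sz_reg (A : AS G Ω T) {K : Type w} [Field K] [Fintype K] {m : ℕ} (hm : 1 ≤ m)
    (hK : Fintype.card K = 2 ^ (2 * m + 1)) (e : ↥T ≃* ↥(Cfsg.Lie.Sz K (2 ^ (m + 1))))
    (hn : Nat.card Ω = Fintype.card K ^ 2 + 1) : ∃ (α : Ω) (U : Subgroup G), Reg T α 2 U := by
  have hfact : Fact (Nat.Prime 2) := ⟨Nat.prime_two⟩
  have hfin : Finite ↥(Cfsg.Lie.Sz K (2 ^ (m + 1))) := inferInstance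
  obtain ⟨-, S, -, hidx, -, hreg⟩ := Cfsg.Agent.S1163.result hm hK
  obtain ⟨h1, h2, h3⟩ := ti_of_reg S hidx (Nat.one_le_pow _ _ (by positivity)) hreg
  refine reg_of_TI A e h1 S (by rw [h2, h3]) (by rw [hn, h3, hK]) ?_
  rw [h2, ← pow_mul]
  exact dvd_pow_self 2 (by omega)

/-- **the Suzuki groups** -/
theorem sz_good (A : AS G Ω T) {K : Type w} [Field K] [Fintype K] {m : ℕ} (hm : 1 ≤ m)
    (hK : Fintype.card K = 2 ^ (2 * m + 1)) (e : ↥T ≃* ↥(Cfsg.Lie.Sz K (2 ^ (m + 1))))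
    (hn : Nat.card Ω = Fintype.card K ^ 2 + 1) (hp : p.Prime) (hk : Fintype.card K ^ 2 = p ^ k) (hab : a ≠ b) :
    Good G T p k a b := by
  have := A.finG
  have := A.finΩ
  have h3 : 2 ^ (2 * (2 * m + 1)) = p ^ k := by rw [← hk, hK, ← pow_mul, mul_comm]
  obtain ⟨rfl, rfl⟩ := pow_inj' Nat.prime_two hp (by omega) h3
  obtain ⟨α, U, R⟩ := sz_reg A hm hK e hn
  obtain ⟨V, R'⟩ := Reg.exists_of A R a
  have h1 := R'.card A hab.symm
  rw [Nat.card_congr e.toEquiv, (Cfsg.Agent.S1163.result hm hK).1, hn, hK, Nat.add_sub_cancel] at h1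
  refine ⟨two_of_reg A R, Or.inl (by omega), Or.inl ?_⟩
  refine (card_two_dvd A a b).trans ?_
  set H := Nat.card ↥(T ⊓ stabilizer G a ⊓ stabilizer G b) with hH
  set q := 2 ^ (2 * m + 1) with hq
  have hHc : H = q - 1 := by
    have h2 : ((q ^ 2 + 1) * q ^ 2) * H = ((q ^ 2 + 1) * q ^ 2) * (q - 1) := by
      calc ((q ^ 2 + 1) * q ^ 2) * H = (q ^ 2 + 1) * (q ^ 2 * H) := by ring
        _ = q ^ 2 * (q - 1) * (q ^ 2 + 1) := h1.symm
        _ = _ := by ring
    exact Nat.eq_of_mul_eq_mul_left (by positivity) h2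
  rw [hHc]
  have e3 : 2 ^ (2 * (2 * m + 1)) - 1 = (q + 1) * (q - 1) := by
    rw [mul_comm, pow_mul, ← hq]
    have := Nat.sq_sub_sq q 1
    rwa [one_pow] at this
  rw [e3]
  have hi : T.index ∣ 2 * m + 1 := by
    have := index_dvd_out A e
    rwa [Cfsg.Agent.S2126.result hm hK] at this
  exact Nat.mul_dvd_mul (Dvd.intro_left _ rfl) (hi.trans (Dvd.intro_left 2 rfl))

end Cfsg.Agent.H813.TT
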