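import Cfsg.Agent.H361.Tits.Tab1aCore
import Cfsg.Agent.H873.Tits.End
import Cfsg.Agent.H125.TwoSz

/-!
# S3414, E-LOC: the rank one groups in their natural action (helper813)
-/

set_option autoImplicit false
open Cfsg

namespace Cfsg.Agent.H813.TT

open Subgroup MulAction Cfsg.Agent.H384.TwoTrans Cfsg.Agent.H499.TT Cfsg.Agent.H361.Tits
open Cfsg.Agent.H873.Tits (TBd)

universe u v w

variable {G : Type u} {Ω : Type v} [Group G] [MulAction G Ω] {T : Subgroup G} {a b : Ω} {p k : ℕ}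

/-- 2-transitivity -/
def TT2 (T : Subgroup G) (Ω : Type v) [MulAction G Ω] : Prop :=
  ∀ a b a' b' : Ω, a ≠ b → a' ≠ b' → ∃ g ∈ T, g • a = a' ∧ g • b = b'

theorem two_of_reg (A : AS G Ω T) {U : Subgroup G} (R : Reg T a p U) : TT2 T Ω := by
  have htr : IsPretransitive T Ω := A.transitive
  intro x y x' y' hxy hxy'
  obtain ⟨⟨t, ht⟩, h1⟩ := exists_smul_eq T x a
  obtain ⟨⟨s, hs⟩, h2⟩ := exists_smul_eq T x' a
  have h1' : t • x = a := h1
  have h2' : s • x' = a := h2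
  have n1 : t • y ≠ a := by
    rw [← h1']
    exact fun h => hxy (smul_left_cancel t h).symm
  have n2 : s • y' ≠ a := by
    rw [← h2']
    exact fun h => hxy' (smul_left_cancel s h).symm
  obtain ⟨u, hu, huc⟩ := R.trans _ _ n1 n2
  refine ⟨s⁻¹ * u * t, mul_mem (mul_mem (inv_mem hs) (R.le hu)) ht, ?_, ?_⟩
  · rw [mul_smul, mul_smul, h1', R.fix u hu, inv_smul_eq_iff, h2']
  · rw [mul_smul, mul_smul, huc, inv_smul_smul]

theorem card_two_dvd (A : AS G Ω T) (a b : Ω) :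
    Nat.card ↥(stabilizer G a ⊓ stabilizer G b) ∣ Nat.card ↥(T ⊓ stabilizer G a ⊓ stabilizer G b) * T.index := by
  have := A.normal
  have h1 : Nat.card ↥(T ⊓ (stabilizer G a ⊓ stabilizer G b)) * T.relIndex (stabilizer G a ⊓ stabilizer G b) =
      Nat.card ↥(stabilizer G a ⊓ stabilizer G b) := by
    rw [← Subgroup.inf_relIndex_right]
    have h2 := Subgroup.relIndex_mul_relIndex ⊥ (T ⊓ (stabilizer G a ⊓ stabilizer G b)) (stabilizer G a ⊓ stabilizer G b)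
      bot_le inf_le_right
    rwa [Subgroup.relIndex_bot_left, Subgroup.relIndex_bot_left] at h2
  rw [← h1, inf_assoc]
  exact Nat.mul_dvd_mul_left _ (Subgroup.relIndex_dvd_index_of_normal _ _)

/-- the conclusion: `T` is 2-transitive and the bound for the two point stabilizer -/
structure Good (G : Type u) {Ω : Type v} [Group G] [MulAction G Ω] (T : Subgroup G) (p k : ℕ) (a b : Ω) : Prop where
  two : TT2 T Ω
  big : 2 ≤ k ∨ 5 ≤ p
  bd : TBd p k (Nat.card ↥(stabilizer G a ⊓ stabilizer G b))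

theorem pow_inj' {r p f k : ℕ} (hr : r.Prime) (hp : p.Prime) (hf : 1 ≤ f) (h : r ^ f = p ^ k) : r = p ∧ f = k := by
  have h1 : r ∣ p ^ k := h ▸ dvd_pow_self r (by omega)
  have h2 : r = p := (Nat.prime_dvd_prime_iff_eq hr hp).1 (hr.dvd_of_dvd_pow h1)
  subst h2
  exact ⟨rfl, Nat.pow_right_injective hr.two_le h⟩

/-- **`PSL₂(q)`** -/
theorem psl2_good (A : AS G Ω T) {F : Type w} [Field F] [Fintype F] (h4 : 4 ≤ Fintype.card F)
    (e : ↥T ≃* Matrix.ProjectiveSpecialLinearGroup (Fin 2) F) (hn : Nat.card Ω = Fintype.card F + 1)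
    (hp : p.Prime) (hk : Fintype.card F = p ^ k) (hab : a ≠ b) : Good G T p k a b := by
  have := A.finG
  have := A.finΩ
  have := Fact.mk hp
  obtain ⟨r, hchar⟩ := CharP.exists F
  obtain ⟨⟨f, hf0⟩, hr, hF⟩ := FiniteField.card F r
  simp only [PNat.mk_coe] at hF
  obtain ⟨rfl, rfl⟩ := pow_inj' hr hp hf0 (hF.symm.trans hk)
  have hf : 1 ≤ f := hf0
  have hrn : ¬ r ∣ Nat.card Ω := by
    rw [hn, hF]
    intro h
    exact hr.one_lt.ne' (Nat.dvd_one.1 ((Nat.dvd_add_right (dvd_pow_self r (by omega))).1 h))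
  obtain ⟨α, U, R⟩ := psl2_reg A e hrn
  obtain ⟨V, R'⟩ := Reg.exists_of A R a
  have h1 := R'.card A hab.symm
  rw [Nat.card_congr e.toEquiv, card_psl2 hF, hn, hF, Nat.add_sub_cancel] at h1
  have hi := index_dvd_out A e
  have h4' : 4 ≤ r ^ f := hF ▸ h4
  rw [card_out_psl2 hr hf hF h4'] at hi
  refine ⟨two_of_reg A R, ?_, Or.inl ?_⟩
  · by_contra hcon
    push Not at hcon
    have h5 : f = 1 := by omega
    rw [h5, pow_one] at h4'
    have h6 : r = 4 := by omega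
    rw [h6] at hr
    exact absurd hr (by norm_num)
  · refine (card_two_dvd A a b).trans ?_
    set H := Nat.card ↥(T ⊓ stabilizer G a ⊓ stabilizer G b) with hH
    -- `|H| gcd = q - 1`
    have hg : H * Nat.gcd 2 (r ^ f - 1) = r ^ f - 1 := by
      have hq : (r ^ f) ^ 2 - 1 = (r ^ f + 1) * (r ^ f - 1) := by
        have := Nat.sq_sub_sq (r ^ f) 1
        rwa [one_pow] at this
      rw [hq] at h1
      have hd : Nat.gcd 2 (r ^ f - 1) ∣ r ^ f * ((r ^ f + 1) * (r ^ f - 1)) :=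
        ((Nat.gcd_dvd_right _ _).mul_left _).mul_left _
      have h5 := Nat.div_mul_cancel hd
      rw [h1] at h5
      have h6 : ((r ^ f + 1) * r ^ f) * (H * Nat.gcd 2 (r ^ f - 1)) = ((r ^ f + 1) * r ^ f) * (r ^ f - 1) := by
        calc ((r ^ f + 1) * r ^ f) * (H * Nat.gcd 2 (r ^ f - 1)) = (r ^ f + 1) * (r ^ f * H) * Nat.gcd 2 (r ^ f - 1) := by ring
          _ = r ^ f * ((r ^ f + 1) * (r ^ f - 1)) := h5
          _ = _ := by ring
      have hpos : 0 < (r ^ f + 1) * r ^ f := by positivity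
      exact Nat.eq_of_mul_eq_mul_left hpos h6
    calc H * T.index ∣ H * (Nat.gcd 2 (r ^ f - 1) * f) := Nat.mul_dvd_mul_left _ hi
      _ = (r ^ f - 1) * f := by rw [← mul_assoc, hg]

/-- **`PSU₃(q)`** -/
theorem psu_good (A : AS G Ω T) {F : Type} [Field F] [Fintype F] {q : ℕ} (hq : 3 ≤ q)
    (hF : Fintype.card F = q ^ 2) (e : ↥T ≃* Cfsg.PSU 3 F q) (hn : Nat.card Ω = q ^ 3 + 1)
    (hp : p.Prime) (hk : q ^ 3 = p ^ k) (hab : a ≠ b) : Good G T p k a b := by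
  have := A.finG
  have := A.finΩ
  have := Fact.mk hp
  obtain ⟨r, f, hr, hf, hqf, hi, -⟩ := psu_data A hq hF e
  have h3 : r ^ (3 * f) = p ^ k := by rw [← hk, hqf, ← pow_mul, mul_comm]
  obtain ⟨rfl, rfl⟩ := pow_inj' hr hp (by omega) h3
  have hrq : r ∣ q := by rw [hqf]; exact dvd_pow_self r (by omega)
  have hchar : CharP F r := by
    obtain ⟨s, hs⟩ := CharP.exists F
    obtain ⟨⟨f', hf'⟩, hs', hcard⟩ := FiniteField.card F s
    simp only [PNat.mk_coe] at hcard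
    have h5 : s ^ f' = r ^ (f * 2) := by rw [← hcard, hF, hqf, ← pow_mul]
    have h6 := (pow_inj' hs' hr hf' h5).1
    rwa [h6] at hs
  have hrn : ¬ r ∣ Nat.card Ω := by
    rw [hn]
    intro h
    exact hr.one_lt.ne' (Nat.dvd_one.1 ((Nat.dvd_add_right (hrq.trans (dvd_pow_self q (by norm_num)))).1 h))
  obtain ⟨α, U, R⟩ := psu_reg (r := r) A hF e hrn
  obtain ⟨V, R'⟩ := Reg.exists_of A R a
  have h1 := R'.card A hab.symm
  rw [hn, Nat.add_sub_cancel] at h1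
  refine ⟨two_of_reg A R, Or.inl (by omega), Or.inr ⟨f, rfl, ?_⟩⟩
  refine (card_two_dvd A a b).trans ?_
  set H := Nat.card ↥(T ⊓ stabilizer G a ⊓ stabilizer G b) with hH
  obtain ⟨t, rfl⟩ : ∃ t, q = t + 1 := ⟨q - 1, by omega⟩
  have hcard := Cfsg.Agent.HKS.EndOrd.card_psu_three (F := F) hF
  rw [← Nat.card_congr e.toEquiv, h1] at hcard
  have hHd : Nat.gcd 3 (t + 2) * H = t * (t + 2) := by
    have e1 : (t + 1) ^ 3 + 1 = (t + 2) * (t ^ 2 + t + 1) := by ring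
    rw [e1] at hcard
    have e2 : ((t + 1) ^ 3 * ((t + 2) * (t ^ 2 + t + 1))) * (Nat.gcd 3 (t + 2) * H) =
        ((t + 1) ^ 3 * ((t + 2) * (t ^ 2 + t + 1))) * (t * (t + 2)) := by
      calc ((t + 1) ^ 3 * ((t + 2) * (t ^ 2 + t + 1))) * (Nat.gcd 3 (t + 2) * H)
          = Nat.gcd 3 (t + 2) * ((t + 2) * (t ^ 2 + t + 1) * ((t + 1) ^ 3 * H)) := by ring
        _ = (t + 1) ^ 3 * (t * ((t + 2) ^ 2 * (t ^ 2 + t + 1))) := hcard
        _ = _ := by ring
    exact Nat.eq_of_mul_eq_mul_left (by positivity) e2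
  have e3 : r ^ (2 * f) - 1 = t * (t + 2) := by
    have : r ^ (2 * f) = (t + 1) ^ 2 := by rw [hqf, ← pow_mul, mul_comm]
    rw [this]
    have : (t + 1) ^ 2 = t * (t + 2) + 1 := by ring
    omega
  rw [e3, ← hHd]
  calc H * T.index ∣ H * (Nat.gcd 3 (t + 2) * (2 * f)) := Nat.mul_dvd_mul_left _ hi
    _ = Nat.gcd 3 (t + 2) * H * (2 * f) := by ring

/-- **the small Ree groups** -/
theorem ree_good (A : AS G Ω T) {K : Type w} [Field K] [Fintype K] {m : ℕ} (hm : 1 ≤ m)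
    (hK : Fintype.card K = 3 ^ (2 * m + 1)) (e : ↥T ≃* ↥(Cfsg.Lie.twistedG2 K (3 ^ m)))
    (hn : Nat.card Ω = Fintype.card K ^ 3 + 1) (hp : p.Prime) (hk : Fintype.card K ^ 3 = p ^ k) (hab : a ≠ b) :
    Good G T p k a b := by
  have := A.finG
  have := A.finΩ
  have h3 : 3 ^ (3 * (2 * m + 1)) = p ^ k := by rw [← hk, hK, ← pow_mul, mul_comm]
  obtain ⟨rfl, rfl⟩ := pow_inj' Nat.prime_three hp (by omega) h3
  obtain ⟨α, U, R⟩ := ree_reg A hm hK e hn
  obtain ⟨V, R'⟩ := Reg.exists_of A R a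
  have h1 := R'.card A hab.symm
  rw [Nat.card_congr e.toEquiv, Cfsg.Agent.LieRecognition.ReeFinal.card hK, hn, hK, Nat.add_sub_cancel] at h1
  refine ⟨two_of_reg A R, Or.inl (by omega), Or.inr ⟨2 * m + 1, rfl, ?_⟩⟩
  refine (card_two_dvd A a b).trans ?_
  set H := Nat.card ↥(T ⊓ stabilizer G a ⊓ stabilizer G b) with hH
  set q := 3 ^ (2 * m + 1) with hq
  have hHc : H = q - 1 := by
    have h2 : ((q ^ 3 + 1) * q ^ 3) * H = ((q ^ 3 + 1) * q ^ 3) * (q - 1) := by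
      calc ((q ^ 3 + 1) * q ^ 3) * H = (q ^ 3 + 1) * (q ^ 3 * H) := by ring
        _ = q ^ 3 * (q - 1) * (q ^ 3 + 1) := h1.symm
        _ = _ := by ring
    exact Nat.eq_of_mul_eq_mul_left (by positivity) h2
  rw [hHc]
  have e3 : 3 ^ (2 * (2 * m + 1)) - 1 = (q + 1) * (q - 1) := by
    rw [mul_comm, pow_mul, ← hq]
    have := Nat.sq_sub_sq q 1
    rwa [one_pow] at this
  rw [e3]
  exact Nat.mul_dvd_mul (Dvd.intro_left _ rfl) ((ree_out_dvd A hm hK e).trans (Dvd.intro_left 2 rfl))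

end Cfsg.Agent.H813.TT
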