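import Cfsg.Agent.H813.TT.NonAff
import Cfsg.Agent.H813.TT.Aff

/-!
# S3414, E-LOC: `StLoc` from the list of the 2-transitive groups (helper813)
-/

set_option autoImplicit false
open Cfsg

namespace Cfsg.Agent.H813.TT

open Subgroup MulAction Cfsg.Agent.H384.TwoTrans Cfsg.Agent.H361.Tits
open Cfsg.Agent.H873.Tits (Spec TBd StLoc Stb LQ TwoTr SimpTwo)

universe u v

section

variable {G : Type u} {Ω : Type v} [Group G] [MulAction G Ω] {a b : Ω} {p k : ℕ}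

theorem TT2.t2 {T : Subgroup G} (h : TT2 T Ω) : T2 T Ω := by
  intro x y x' y' hxy hxy'
  obtain ⟨g, hg, h1, h2⟩ := h x y x' y' hxy hxy'
  exact ⟨⟨g, hg⟩, h1, h2⟩

theorem bd_le {e T : ℕ} (hp : p.Prime) (hk : 1 ≤ k) (hd : p ^ e ∣ T) (h : TBd p k T) : p ^ e ≤ k := by
  rcases h with h | ⟨f, hf, h⟩
  · have h1 := hd.trans h
    have hco : Nat.Coprime (p ^ e) (p ^ k - 1) := by
      apply Nat.Coprime.pow_left
      rw [hp.coprime_iff_not_dvd]
      intro h2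
      have h3 : p ∣ p ^ k := dvd_pow_self p (by omega)
      have h4 : 1 ≤ p ^ k := Nat.one_le_pow _ _ hp.pos
      have h5 := (Nat.dvd_sub h3 h2)
      rw [show p ^ k - (p ^ k - 1) = 1 by omega] at h5
      exact hp.one_lt.ne' (Nat.dvd_one.1 h5)
    exact Nat.le_of_dvd (by omega) (hco.dvd_of_dvd_mul_left h1)
  · have h1 := hd.trans h
    have hf1 : 1 ≤ f := by omega
    have hco : Nat.Coprime (p ^ e) (p ^ (2 * f) - 1) := by
      apply Nat.Coprime.pow_left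
      rw [hp.coprime_iff_not_dvd]
      intro h2
      have h3 : p ∣ p ^ (2 * f) := dvd_pow_self p (by omega)
      have h4 : 1 ≤ p ^ (2 * f) := Nat.one_le_pow _ _ hp.pos
      have h5 := (Nat.dvd_sub h3 h2)
      rw [show p ^ (2 * f) - (p ^ (2 * f) - 1) = 1 by omega] at h5
      exact hp.one_lt.ne' (Nat.dvd_one.1 h5)
    have := Nat.le_of_dvd (by omega) (hco.dvd_of_dvd_mul_left h1)
    omega

theorem loc [Finite G] [Finite Ω] [FaithfulSMul G Ω]
    (hK : ∀ T : Subgroup G, AS G Ω T → Known2 ↥T (Nat.card Ω)) (h2 : T2 G Ω) (hp : p.Prime) (hk : 1 ≤ k)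
    (hn : Nat.card Ω = p ^ k + 1) (hab : a ≠ b) (Q : Subgroup G) (hQp : IsPGroup p ↥Q) (hQ1 : Q ≠ ⊥)
    (hfix : ∀ x ∈ Q, x • a = a) (hnorm : ∀ g : G, g • a = a → ∀ x ∈ Q, g * x * g⁻¹ ∈ Q)
    (H : Subgroup G) (hH2 : TT2 H Ω) (hHi : ∃ e, H.index = p ^ e) :
    ((2 ≤ k ∨ 5 ≤ p) ∧ (∃ T : Subgroup G, T.Normal ∧ IsSimpleGroup ↥T ∧ ¬ IsMulCommutative ↥T ∧ TT2 T Ω ∧ T ≤ H) ∧
      TBd p k (Nat.card ↥(stabilizer G a ⊓ stabilizer G b))) ∨
      Spec p k (Nat.card ↥(stabilizer G a ⊓ stabilizer G b)) := by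
  have hpk : 2 ≤ p ^ k := hp.two_le.trans (Nat.le_self_pow (by omega) p)
  have h3 : 3 ≤ Nat.card Ω := by omega
  have hpre : IsMultiplyPretransitive G Ω 2 := by
    rw [is_two_pretransitive_iff]
    intro a b c d hab hcd
    exact h2 a b c d hab hcd
  rcases reduction hpre h3 with ⟨N, hN, -, hNc, hexp, htr, hreg⟩ | ⟨T, A⟩
  · right
    exact aff_spec h2 N hexp htr hreg hp hk hn Q hQp hQ1 hfix hnorm hab
  obtain ⟨Z, hZQ, hZ⟩ := exists_EA hp Q hQp hQ1 hfix hnorm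
  by_cases hnsr : ∃ n ∈ Z, n ≠ 1 ∧ ∃ y : Ω, y ≠ a ∧ n • y = y
  · exfalso
    obtain ⟨f, d, hp', hf, hd, hcd, -⟩ := pslT_of_nsr hpre hp ⟨Z, hZ.fix, hZ.norm, hZ.comm, hnsr, hZ.isPGroup⟩
    rw [hn] at hcd
    have := psl_arith hp hp' hf (by omega) hcd
    omega
  · have hSR : SR a p Z := ⟨hZ, by
      intro x hx hx1 b hb
      by_contra hba
      exact hnsr ⟨x, hx, hx1, b, hba, hb⟩⟩
    rcases rows A (hK T A) hSR hn hab with hg | ⟨hp3, hk3, hc⟩
    · left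
      refine ⟨hg.big, ⟨T, A.normal, A.simple, A.nonab, hg.two, ?_⟩, hg.bd⟩
      obtain ⟨e, he⟩ := hHi
      have hT := A.normal
      have hTs := A.simple
      have cG := card_two (G := G) h3 h2 hab
      have cH := card_two (G := H) h3 hH2.t2 hab
      have cT := card_two (G := T) h3 hg.two.t2 hab
      rw [hn, Nat.add_sub_cancel] at cG cH cT
      have hGH := H.card_mul_index
      rw [cG, cH, he] at hGH
      have hd : p ^ e ∣ Nat.card ↥(stabilizer G a ⊓ stabilizer G b) := by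
        refine ⟨Nat.card ↥(stabilizer H a ⊓ stabilizer H b), ?_⟩
        have h0 : 0 < (p ^ k + 1) * p ^ k := by positivity
        apply Nat.eq_of_mul_eq_mul_left h0
        calc (p ^ k + 1) * p ^ k * Nat.card ↥(stabilizer G a ⊓ stabilizer G b)
            = (p ^ k + 1) * (p ^ k * Nat.card ↥(stabilizer G a ⊓ stabilizer G b)) := by ring
          _ = _ := hGH.symm
          _ = _ := by ring
      have hle := bd_le hp hk hd hg.bd
      exact le_of_small T H (p := p) (k := k) hp ⟨(p ^ k + 1) * Nat.card ↥(stabilizer T a ⊓ stabilizer T b), by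
        rw [cT]; ring⟩ (by rw [he]; exact hle)
    · right; right; right; right
      exact ⟨hp3, hk3, by rw [hc]⟩

end

/-- **E-LOC** -/
theorem st_loc_of (hK : ∀ {G Ω : Type v} [Group G] [MulAction G Ω] {T : Subgroup G}, AS G Ω T →
    Known2 ↥T (Nat.card Ω)) : StLoc.{v} := by
  intro Ω _ L L' s p k a b Q hLQ hL' hle hs hidx
  have hc := hLQ.card
  have hs2 := hLQ.two_le
  have hQL : Q ≤ L := hLQ.Q_le.trans inf_le_left
  have hQa : ∀ x ∈ Q, x a = a := fun x hx => (hLQ.Q_le hx).2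
  have hk : 1 ≤ k := by
    rcases Nat.eq_zero_or_pos k with h | h
    · rw [h, pow_zero] at hs
      omega
    · exact h
  have hcard : Nat.card ↥(Stb L a ⊓ Stb L b) = Nat.card ↥(stabilizer L a ⊓ stabilizer L b) := by
    apply Nat.card_congr
    exact ⟨fun g => ⟨⟨g.1, g.2.1.1⟩, g.2.1.2, g.2.2.2⟩, fun g => ⟨g.1.1, ⟨g.1.2, g.2.1⟩, ⟨g.1.2, g.2.2⟩⟩,
      fun _ => rfl, fun _ => rfl⟩
  have h2 : T2 L Ω := by
    intro x y x' y' hxy hxy'
    obtain ⟨g, hg, h1, h2⟩ := hLQ.two x y x' y' hxy hxy'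
    exact ⟨⟨g, hg⟩, h1, h2⟩
  have hloc := loc (G := L) (Ω := Ω) (k := k) (b := b) (fun T A => hK A) h2 hLQ.prime hk (by rw [hc, hs]) hLQ.ne
    (Q.subgroupOf L)
    (hLQ.Q_p.comap_of_injective L.subtype L.subtype_injective)
    (by
      intro h
      rw [subgroupOf_eq_bot, disjoint_iff, inf_eq_left.2 hQL] at h
      exact hLQ.Q_ne h)
    (fun x hx => hQa x hx)
    (by
      intro g hg x hx
      have hgS : (g : Equiv.Perm Ω) ∈ Stb L a := ⟨g.2, hg⟩
      have h1 := hLQ.Q_normal.conj_mem ⟨x, hLQ.Q_le hx⟩ hx ⟨g, hgS⟩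
      exact h1)
    (L'.subgroupOf L)
    (by
      intro x y x' y' hxy hxy'
      obtain ⟨g, hg, h1, h2⟩ := hL' x y x' y' hxy hxy'
      exact ⟨⟨g, hle hg⟩, hg, h1, h2⟩)
    hidx
  rw [hcard]
  rcases hloc with ⟨hbig, ⟨T, hT, hTs, hTa, hT2, hTH⟩, hbd⟩ | hsp
  · left
    refine ⟨hbig, ⟨T.map L.subtype, ?_, ?_, ?_, ?_, ?_⟩, hbd⟩
    · rintro _ ⟨x, hx, rfl⟩
      exact hTH hx
    · constructor
      rintro ⟨x, hxL'⟩ hx ⟨g, hg⟩
      obtain ⟨y, hy, hyx⟩ := hx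
      refine ⟨⟨g, hle hg⟩ * y * ⟨g, hle hg⟩⁻¹, hT.conj_mem y hy _, ?_⟩
      have hyx' : (y : Equiv.Perm Ω) = x := hyx
      show g * (y : Equiv.Perm Ω) * g⁻¹ = g * x * g⁻¹
      rw [hyx']
    · exact (T.equivMapOfInjective _ L.subtype_injective).symm.isSimpleGroup
    · intro hcm
      apply hTa
      let e : T ≃* T.map L.subtype := T.equivMapOfInjective _ L.subtype_injective
      exact ⟨⟨fun x y => e.injective (by rw [map_mul, map_mul, hcm.is_comm.comm])⟩⟩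
    · intro x y x' y' hxy hxy'
      obtain ⟨g, hg, h1, h2⟩ := hT2 x y x' y' hxy hxy'
      exact ⟨g, ⟨g, hg, rfl⟩, h1, h2⟩
  · exact Or.inr hsp

end Cfsg.Agent.H813.TT
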