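import Cfsg.Agent.H813.TT.StLoc
import Cfsg.Agent.H384.TwoTransMain
import Cfsg.Agent.S0000

/-!
# S3414, E-LOC: `st_loc` (helper813)
-/

set_option autoImplicit false

namespace Cfsg.Agent.H813.TT

open Cfsg.Agent.H873.Tits

universe v

/-- **E-LOC** -/
theorem st_loc : StLoc.{v} :=
  st_loc_of fun A => Cfsg.Agent.H384.TwoTransMain.main (fun _ _ _ _ => Cfsg.Agent.S0000.result) A

end Cfsg.Agent.H813.TT
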